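import Groth.Prelude.Def_W4c5qcohlocdualityLoc
import Mathlib.CategoryTheory.Abelian.GrothendieckCategory.EnoughInjectives
import Mathlib.CategoryTheory.Limits.Constructions.Filtered
import Mathlib.CategoryTheory.Limits.Shapes.Pullback.Mono

/-!
# Closed objects for the localizing closure

For `M ↪ I` with `I` injective and quotient `Q`, `M` is closed for an object `B` iff `Hom(B, M) = 0` and every map
`B ⟶ Q` lifts to `I`.  The objects all whose subquotients have this property form a localizing class (AB5).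
-/

universe w v u

open CategoryTheory CategoryTheory.Limits ZeroObject

set_option linter.style.haveILetI false
set_option linter.unusedSectionVars false
set_option backward.isDefEq.respectTransparency false

namespace Groth.Agent.LocClosed

variable {C : Type u} [Category.{v} C] [Abelian C]

section AB5

variable {J : Type w} [SmallCategory J] [IsFiltered J] [HasColimitsOfShape J C] [HasExactColimitsOfShape J C]

/-- AB5: a subobject (or any object) over a filtered colimit is covered by its pullbacks to the stages. -/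
theorem exists_cover (D : J ⥤ C) {c : Cocone D} (hc : IsColimit c) {A : C} (i : A ⟶ c.pt) :
    ∃ (K : J ⥤ C) (a : K ⟶ (Functor.const J).obj A) (b : K ⟶ D),
      (∀ j, IsPullback (a.app j) (b.app j) i (c.ι.app j)) ∧
        Nonempty (IsColimit (Cocone.mk A a)) := by
  have := IsFiltered.isConnected J
  let α : (Functor.const J).obj A ⟶ (Functor.const J).obj c.pt := (Functor.const J).map i
  let K := pullback α c.ι
  refine ⟨K, pullback.fst α c.ι, pullback.snd α c.ι,
    fun j => (IsPullback.of_hasPullback α c.ι).map ((evaluation J C).obj j), ?_⟩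
  let eA := colimit.isoColimitCocone ⟨_, isColimitConstCocone J A⟩
  let eX := colimit.isoColimitCocone ⟨_, isColimitConstCocone J c.pt⟩
  let eD := colimit.isoColimitCocone ⟨_, hc⟩
  have h : IsPullback (colim.map (pullback.fst α c.ι)) (colim.map (pullback.snd α c.ι)) (colim.map α)
      (colim.map c.ι) := (IsPullback.of_hasPullback α c.ι).map colim
  have hiso : IsIso (colim.map c.ι) := by
    have : colim.map c.ι = eD.hom ≫ eX.inv := by
      rw [Iso.eq_comp_inv]
      refine colimit.hom_ext fun j => ?_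
      simp [eX, eD]
    rw [this]; infer_instance
  have : IsIso (colim.map (pullback.fst α c.ι)) := h.isIso_fst_of_isIso
  refine ⟨IsColimit.ofIsoColimit (colimit.isColimit K) (Cocone.ext (asIso (colim.map (pullback.fst α c.ι)) ≪≫ eA) ?_)⟩
  intro j
  simp [eA]

end AB5

variable {M I Q : C} (m : M ⟶ I) (q : I ⟶ Q)

/-- `Hom(B, M) = 0` and every map `B ⟶ Q` lifts to `I`. -/
def Good (B : C) : Prop :=
  (∀ f : B ⟶ M, f = 0) ∧ ∀ h : B ⟶ Q, ∃ l : B ⟶ I, l ≫ q = h

/-- All subquotients are good. -/
def cls : ObjectProperty C :=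
  fun Y => ∀ ⦃A B : C⦄ (i : A ⟶ Y) (p : A ⟶ B), Mono i → Epi p → Good (M := M) q B

variable {q}

theorem good_of_cls {Y : C} (h : cls (M := M) q Y) : Good (M := M) q Y :=
  h (𝟙 Y) (𝟙 Y) inferInstance inferInstance

instance : (cls (M := M) q).IsClosedUnderSubobjects :=
  ⟨fun f _ h _ _ i p _ hp => h (i ≫ f) p inferInstance hp⟩

instance : (cls (M := M) q).IsClosedUnderQuotients :=
  ⟨fun {X Y} f _ h A B i p hi hp => by
    haveI := hi; haveI := hp
    exact h (pullback.fst f i) (pullback.snd f i ≫ p) inferInstance inferInstance⟩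

variable [Injective I]

theorem good_ext {S : ShortComplex C} (hS : S.ShortExact) (h₁ : Good (M := M) q S.X₁) (h₃ : Good (M := M) q S.X₃) :
    Good (M := M) q S.X₂ := by
  have := hS.mono_f
  have := hS.epi_g
  constructor
  · intro f
    obtain ⟨g, rfl⟩ : ∃ g, S.g ≫ g = f :=
      ⟨hS.exact.desc f (h₁.1 _), hS.exact.g_desc f (h₁.1 _)⟩
    rw [h₃.1 g, comp_zero]
  · intro h
    obtain ⟨l₁, hl₁⟩ := h₁.2 (S.f ≫ h)
    let l := Injective.factorThru l₁ S.f
    have hk : S.f ≫ (h - l ≫ q) = 0 := by
      rw [Preadditive.comp_sub, ← Category.assoc, Injective.comp_factorThru, hl₁, sub_self]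
    obtain ⟨l₃, hl₃⟩ := h₃.2 (hS.exact.desc _ hk)
    exact ⟨l + S.g ≫ l₃, by rw [Preadditive.add_comp, Category.assoc, hl₃, hS.exact.g_desc, add_sub_cancel]⟩

instance : (cls (M := M) q).IsClosedUnderExtensions :=
  ⟨fun {S} hS h₁ h₃ A B i p hi hp => by
    haveI := hi; haveI := hp
    have := hS.mono_f
    -- `A₁` is the part of `A` in `X₁`, `B₁` its image in `B`
    let k := kernel.ι (i ≫ S.g)
    let k₁ := hS.exact.lift (k ≫ i) (by rw [Category.assoc, kernel.condition])
    have : Mono k₁ := by
      have h : Mono (k₁ ≫ S.f) := by rw [ShortComplex.Exact.lift_f]; infer_instance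
      exact mono_of_mono k₁ S.f
    let T := ShortComplex.mk (Abelian.image.ι (k ≫ p)) (cokernel.π (Abelian.image.ι (k ≫ p))) (cokernel.condition _)
    have hT : T.ShortExact :=
      ⟨ShortComplex.exact_of_g_is_cokernel _ (cokernelIsCokernel _)⟩
    have hk : k ≫ p ≫ T.g = 0 := by
      rw [← Category.assoc, ← Abelian.image.fac (k ≫ p), Category.assoc, T.zero, comp_zero]
    let d : Abelian.coimage (i ≫ S.g) ⟶ T.X₃ := cokernel.desc _ (p ≫ T.g) hk
    have : Epi d := by
      have h : Epi (Abelian.coimage.π (i ≫ S.g) ≫ d) := by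
        rw [show Abelian.coimage.π (i ≫ S.g) ≫ d = p ≫ T.g from cokernel.π_desc _ _ _]; infer_instance
      exact epi_of_epi (Abelian.coimage.π (i ≫ S.g)) d
    exact good_ext hT (h₁ k₁ (Abelian.factorThruImage (k ≫ p)) inferInstance inferInstance)
      (h₃ (Abelian.factorThruCoimage (i ≫ S.g)) d inferInstance inferInstance)⟩

instance : (cls (M := M) q).ContainsZero :=
  ⟨0, isZero_zero C, fun A B i p _ _ => by
    have hA : IsZero A := IsZero.of_mono i (isZero_zero C)
    have hB : IsZero B := IsZero.of_epi p hA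
    exact ⟨fun f => hB.eq_of_src _ _, fun h => ⟨0, hB.eq_of_src _ _⟩⟩⟩

instance : (cls (M := M) q).IsSerreClass where

theorem cls_finite {α : Type w} [HasFiniteCoproducts C] (f : α → C) (hf : ∀ a, cls (M := M) q (f a)) (s : Finset α) :
    cls (M := M) q (∐ fun x : s => f x) := by
  classical
  induction s using Finset.induction_on with
  | empty =>
    refine (cls (M := M) q).prop_of_isZero ?_
    rw [IsZero.iff_id_eq_zero]
    exact Sigma.hom_ext _ _ fun x => absurd x.2 (Finset.notMem_empty _)
  | @insert a s _ ih =>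
    let g : f a ⊞ (∐ fun x : s => f x) ⟶ ∐ fun x : ↥(insert a s) => f x :=
      biprod.desc (Sigma.ι (fun x : ↥(insert a s) => f x) ⟨a, Finset.mem_insert_self a s⟩)
        (Sigma.desc fun x => Sigma.ι (fun x : ↥(insert a s) => f x) ⟨x.1, Finset.mem_insert_of_mem x.2⟩)
    have : Epi g := ⟨fun {Z} u v h => Sigma.hom_ext _ _ fun ⟨x, hx⟩ => by
      rcases Finset.mem_insert.mp hx with rfl | hx'
      · simpa [g] using congr(biprod.inl ≫ $h)
      · simpa [g] using congr(Sigma.ι (fun x : s => f x) ⟨x, hx'⟩ ≫ biprod.inr ≫ $h)⟩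
    refine (cls (M := M) q).prop_of_epi g ?_
    exact (cls (M := M) q).prop_X₂_of_shortExact
      (S := ShortComplex.mk biprod.inl biprod.snd biprod.inl_snd)
      (ShortComplex.Splitting.ofHasBinaryBiproduct _ _).shortExact (hf a) ih

variable (hw : m ≫ q = 0) (hmq : (ShortComplex.mk m q hw).ShortExact)

include hmq in
theorem cls_colim {J : Type w} [SmallCategory J] [IsFiltered J] [HasColimitsOfShape J C]
    [HasExactColimitsOfShape J C] (D : J ⥤ C) {c : Cocone D} (hc : IsColimit c)
    (hD : ∀ j, cls (M := M) q (D.obj j)) : cls (M := M) q c.pt := by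
  intro A B i p hi hp
  have := hmq.mono_f
  obtain ⟨K, a, b, hpb, ⟨hK⟩⟩ := exists_cover D hc i
  have hb : ∀ j, Mono (b.app j) := fun j => (hpb j).mono_snd_of_mono
  have hgood : ∀ j, Good (M := M) q (K.obj j) := fun j => hD j (b.app j) (𝟙 _) (hb j) inferInstance
  -- maps to `M` from subobjects of `c.pt` vanish
  have hA0 : ∀ f : A ⟶ M, f = 0 := fun f => hK.hom_ext fun j => by
    rw [comp_zero]; exact (hgood j).1 _
  refine ⟨fun f => by rw [← cancel_epi p, comp_zero]; exact hA0 _, fun h => ?_⟩
  choose l hl using fun j => (hgood j).2 (a.app j ≫ p ≫ h)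
  have huniq : ∀ j (l' : K.obj j ⟶ I), l' ≫ q = a.app j ≫ p ≫ h → l' = l j := by
    intro j l' hl'
    have h0 : (l' - l j) ≫ q = 0 := by rw [Preadditive.sub_comp, hl', hl, sub_self]
    rw [← sub_eq_zero, ← hmq.exact.lift_f _ h0, (hgood j).1 (hmq.exact.lift _ h0), zero_comp]
  let s : Cocone K := Cocone.mk I
    { app := l
      naturality := fun j j' φ => by
        dsimp
        rw [Category.comp_id]
        exact huniq j _ (by rw [Category.assoc, hl, ← Category.assoc, a.naturality]; simp) }
  let lA : A ⟶ I := hK.desc s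
  have hlA : lA ≫ q = p ≫ h := hK.hom_ext fun j => by
    rw [← Category.assoc, hK.fac]; exact hl j
  -- the lift descends to `B`: it kills the kernel
  have hker : kernel.ι p ≫ lA = 0 := by
    obtain ⟨K', a', b', hpb', ⟨hK'⟩⟩ := exists_cover D hc (kernel.ι p ≫ i)
    have hz : (kernel.ι p ≫ lA) ≫ q = 0 := by
      rw [Category.assoc, hlA, kernel.condition_assoc, zero_comp]
    have : hmq.exact.lift _ hz = 0 := hK'.hom_ext fun j => by
      rw [comp_zero]
      exact (hD j (b'.app j) (𝟙 _) (hpb' j).mono_snd_of_mono inferInstance).1 _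
    rw [← hmq.exact.lift_f _ hz, this, zero_comp]
  refine ⟨Abelian.epiDesc p lA hker, ?_⟩
  rw [← cancel_epi p, ← Category.assoc, Abelian.comp_epiDesc, hlA]

include hmq in
theorem isLocalizing [IsGrothendieckAbelian.{w} C] : GabLoc.IsLocalizing.{w} (cls (M := M) q) := by
  refine ⟨inferInstance, fun α => ⟨?_⟩⟩
  rintro X ⟨⟨D, ι, hι⟩, hD⟩
  let c := CoproductsFromFiniteFiltered.liftToFinsetColimitCocone D
  have h : cls (M := M) q c.cocone.pt :=
    cls_colim m hw hmq (CoproductsFromFiniteFiltered.liftToFinsetObj D)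
      (colimit.isColimit (CoproductsFromFiniteFiltered.liftToFinsetObj D)) fun s => cls_finite (fun x => D.obj x) hD s
  exact (cls (M := M) q).prop_of_iso (c.isColimit.coconePointUniqueUpToIso hι) h

include hmq in
theorem isClosedFor_cls : GabLoc.IsClosedFor (cls (M := M) q) M := by
  refine ⟨fun Y hY f => (good_of_cls hY).1 f, fun N Y i p hp hY hex => ?_⟩
  have := hmq.mono_f
  have : Mono i := hex.mono_f
  have : Epi p := hex.epi_g
  let e := Injective.factorThru m i
  have he : i ≫ e ≫ q = 0 := by rw [← Category.assoc, Injective.comp_factorThru, hw]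
  obtain ⟨l, hl⟩ := (good_of_cls hY).2 (hex.exact.desc _ he)
  have hr : (e - p ≫ l) ≫ q = 0 := by
    rw [Preadditive.sub_comp, Category.assoc, hl, hex.exact.g_desc, sub_self]
  refine IsSplitMono.mk' ⟨hmq.exact.lift _ hr, ?_⟩
  rw [← cancel_mono m, Category.assoc, hmq.exact.lift_f, Preadditive.comp_sub, Injective.comp_factorThru,
    ← Category.assoc, hp, zero_comp, sub_zero, Category.id_comp]

include hmq in
theorem le_cls (P : ObjectProperty C) [P.IsClosedUnderSubobjects] [P.IsClosedUnderQuotients]
    (hP : GabLoc.IsClosedFor P M) : P ≤ cls (M := M) q := by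
  intro Y hY A B i p hi hp
  have hB : P B := P.prop_of_epi p (P.prop_of_mono i hY)
  have := hmq.mono_f
  have := hmq.epi_g
  refine ⟨fun f => hP.1 hB f, fun h => ?_⟩
  let i' : M ⟶ pullback q h := pullback.lift m 0 (by rw [hw, zero_comp])
  have hi' : i' ≫ pullback.snd q h = 0 := pullback.lift_snd _ _ _
  have hm : Mono i' := mono_of_mono_fac (pullback.lift_fst m 0 (by rw [hw, zero_comp]))
  have hex : (ShortComplex.mk i' (pullback.snd q h) hi').ShortExact :=
    { exact := ShortComplex.exact_of_f_is_kernel _ <| KernelFork.IsLimit.ofι' _ _ fun k hk =>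
        ⟨hmq.exact.lift (k ≫ pullback.fst q h) (by
          rw [Category.assoc, pullback.condition, ← Category.assoc, hk, zero_comp]),
         pullback.hom_ext (by simp [i', hmq.exact.lift_f]) (by simp [i', hk])⟩
      mono_f := hm
      epi_g := inferInstanceAs (Epi (pullback.snd q h)) }
  obtain ⟨⟨sp⟩⟩ := hP.2 i' _ hi' hB hex
  have hz : i' ≫ (pullback.fst q h - sp.retraction ≫ m) = 0 := by
    rw [Preadditive.comp_sub, pullback.lift_fst, sp.id_assoc, sub_self]
  refine ⟨hex.exact.desc _ hz, ?_⟩
  rw [← cancel_epi (pullback.snd q h), ← Category.assoc, hex.exact.g_desc, Preadditive.sub_comp, Category.assoc, hw,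
    comp_zero, sub_zero, pullback.condition]

theorem isClosedFor_locClosure [IsGrothendieckAbelian.{w} C] (P : ObjectProperty C) [P.IsClosedUnderSubobjects]
    [P.IsClosedUnderQuotients] (M : C) (hP : GabLoc.IsClosedFor P M) :
    GabLoc.IsClosedFor (GabLoc.locClosure.{w} P) M := by
  let m := Injective.ι M
  have hw : m ≫ cokernel.π m = 0 := cokernel.condition m
  have hmq : (ShortComplex.mk m (cokernel.π m) hw).ShortExact :=
    ⟨ShortComplex.exact_of_g_is_cokernel _ (cokernelIsCokernel _)⟩
  have hle : GabLoc.locClosure.{w} P ≤ cls (M := M) (cokernel.π m) :=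
    fun Y hY => hY _ (isLocalizing m hw hmq) (le_cls m hw hmq P hP)
  exact ⟨fun Y hY f => (isClosedFor_cls m hw hmq).1 (hle Y hY) f,
    fun N Y i p hp hY => (isClosedFor_cls m hw hmq).2 i p hp (hle Y hY)⟩

end Groth.Agent.LocClosed
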